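import Mathlib.RingTheory.Henselian
import Mathlib.RingTheory.DiscreteValuationRing.Basic
import Mathlib.RingTheory.Localization.FractionRing
import Mathlib.RingTheory.Ideal.Quotient.Index
import Mathlib.Algebra.Polynomial.Identities
import Mathlib.RingTheory.Polynomial.Basic
import Mathlib.RingTheory.RootsOfUnity.Basic
import Groth.Agent.Etcore.Herbrand

/-!
# The index `(E^* : (E^*)^p)` for the fraction field of a henselian discrete valuation ring

`cok_units`: if `O` is a henselian discrete valuation ring with finite residue field and fraction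
field `E` with `p ≠ 0` in `E`, then `#E^*/p = p * #(O/p) * #E^*[p]` (all finite).
-/

set_option autoImplicit false

open Function Polynomial Groth.Agent.Etcore.Herbrand

namespace Groth.Agent.Etbc.H174.LocalUnits

section hensel

variable {O : Type*} [CommRing O] [IsDomain O] [HenselianLocalRing O]

/-- If `a = p * b` with `b` in the maximal ideal, then `1 + p * a` is a `p`-th power of an
element of `1 + a O`. -/
theorem exists_pow_eq (p : ℕ) (hp : 2 ≤ p) (a b : O) (hab : a = p * b)
    (hb : b ∈ IsLocalRing.maximalIdeal O) (hp0 : (p : O) ≠ 0) :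
    ∃ t : O, (1 + a * t) ^ p = 1 + p * a := by
  rcases eq_or_ne a 0 with rfl | ha
  · exact ⟨0, by simp⟩
  obtain ⟨H, hH⟩ := Polynomial.powAddExpansion (X : O[X]) (C a) p
  let F : O[X] := X ^ p - X ^ (p - 1) - C b * H
  have hF : C ((p : O) * a) * F = C (1 + p * a) * X ^ p - (X + C a) ^ p := by
    simp only [F]
    rw [hH]
    have e1 : (C (a * (p * b)) : O[X]) = C a ^ 2 := by rw [← hab, C_mul, sq]
    have e2 : C ((p : O) * a) * (C b * H) = H * C a ^ 2 := by
      rw [← e1]
      simp only [C_mul]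
      ring
    rw [mul_sub, mul_sub, e2]
    simp only [C_mul, C_add, C_1, map_natCast]
    ring
  have hdeg : (C b * H).degree < (p - 1 : ℕ) := by
    have h1 : (H * C a ^ 2).degree < (p - 1 : ℕ) := by
      have e : H * C a ^ 2 = (X + C a) ^ p - X ^ p - (p : O[X]) * X ^ (p - 1) * C a := by
        rw [hH]; ring
      rw [e, Polynomial.degree_lt_iff_coeff_zero]
      intro m hm
      rw [coeff_sub, coeff_sub, coeff_X_add_C_pow, coeff_X_pow]
      have e3 : ((p : O[X]) * X ^ (p - 1) * C a).coeff m = if m = p - 1 then (p : O) * a else 0 := by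
        rw [coeff_mul_C, ← Polynomial.C_eq_natCast, coeff_C_mul, coeff_X_pow]
        split_ifs <;> simp
      rw [e3]
      rcases Nat.lt_trichotomy m p with h | h | h
      · have hm' : m = p - 1 := by omega
        subst hm'
        rw [if_neg (by omega), if_pos rfl]
        have h4 : p - (p - 1) = 1 := by omega
        have h5 : p.choose (p - 1) = p := by
          rw [Nat.choose_symm_of_eq_add (show p = (p - 1) + 1 by omega), Nat.choose_one_right]
        rw [h4, h5]
        ring
      · subst h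
        rw [if_pos rfl, if_neg (by omega)]
        simp
      · rw [if_neg (by omega), if_neg (by omega), Nat.choose_eq_zero_of_lt h]
        simp
    have h2 : (H * C a ^ 2).degree = H.degree := by
      rw [← C_pow, mul_comm, degree_C_mul (pow_ne_zero 2 ha)]
    rw [h2] at h1
    refine lt_of_le_of_lt ?_ h1
    refine (degree_mul_le _ _).trans ?_
    calc (C b).degree + H.degree ≤ 0 + H.degree := by gcongr; exact degree_C_le
      _ = H.degree := zero_add _
  have hdeg2 : (X ^ (p - 1) + C b * H).degree < ((p : ℕ) : WithBot ℕ) := by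
    refine lt_of_le_of_lt (degree_add_le _ _) (max_lt ?_ (lt_trans hdeg ?_))
    · rw [degree_X_pow]
      exact_mod_cast (show p - 1 < p by omega)
    · exact_mod_cast (show p - 1 < p by omega)
  have hmonic : F.Monic := by
    simp only [F]
    rw [sub_sub]
    exact monic_X_pow_sub hdeg2
  have h1 : F.eval 1 ∈ IsLocalRing.maximalIdeal O := by
    simp only [F, eval_sub, eval_pow, eval_X, one_pow, sub_self, zero_sub, eval_mul, eval_C]
    exact neg_mem (Ideal.mul_mem_right _ _ hb)
  have h2 : IsUnit (F.derivative.eval 1) := by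
    have e : F.derivative.eval 1 = 1 - b * (derivative H).eval 1 := by
      simp only [F, derivative_sub, derivative_X_pow, derivative_mul, derivative_C, zero_mul,
        zero_add, eval_sub, eval_mul, eval_C, eval_pow, eval_X, one_pow, mul_one]
      have : ((p - 1 : ℕ) : O) = (p : O) - 1 := by
        rw [Nat.cast_sub (by omega), Nat.cast_one]
      rw [this]
      ring
    rw [e]
    have hmem : b * (derivative H).eval 1 ∈ IsLocalRing.maximalIdeal O :=
      Ideal.mul_mem_right _ _ hb
    by_contra hcon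
    have h3 : (1 - b * (derivative H).eval 1) ∈ IsLocalRing.maximalIdeal O := hcon
    have h4 := add_mem h3 hmem
    rw [sub_add_cancel] at h4
    exact (IsLocalRing.maximalIdeal.isMaximal O).ne_top ((Ideal.eq_top_iff_one _).2 h4)
  obtain ⟨V, hV, hV1⟩ := HenselianLocalRing.is_henselian F hmonic 1 h1 h2
  have hVu : IsUnit V := by
    by_contra hcon
    have h3 : V ∈ IsLocalRing.maximalIdeal O := hcon
    have h4 : V - (V - 1) ∈ IsLocalRing.maximalIdeal O := sub_mem h3 hV1
    rw [sub_sub_cancel] at h4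
    exact (IsLocalRing.maximalIdeal.isMaximal O).ne_top ((Ideal.eq_top_iff_one _).2 h4)
  have hE : (1 + p * a) * V ^ p = (V + a) ^ p := by
    have := congrArg (Polynomial.eval V) hF
    rw [eval_mul, show Polynomial.eval V F = 0 from hV, mul_zero] at this
    simp only [eval_sub, eval_mul, eval_C, eval_pow, eval_X, eval_add] at this
    exact (sub_eq_zero.1 this.symm)
  obtain ⟨W, rfl⟩ := hVu
  refine ⟨(W⁻¹ : Oˣ), ?_⟩
  have h5 : (1 + a * ((W⁻¹ : Oˣ) : O)) = ((W : O) + a) * ((W⁻¹ : Oˣ) : O) := by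
    rw [add_mul, Units.mul_inv]
  rw [h5, mul_pow, ← hE, mul_assoc, ← mul_pow, Units.mul_inv, one_pow, mul_one]

omit [IsDomain O] [HenselianLocalRing O] in
/-- `(1 + c t)^p = 1 + p c (t + k π t²)` for `c = p π`. -/
theorem pow_form (p : ℕ) (π t : O) : ∃ k : O,
    (1 + (p * π) * t) ^ p = 1 + p * ((p * π) * (t * (1 + k * π * t))) := by
  obtain ⟨k, hk⟩ := Polynomial.powAddExpansion (1 : O) ((p * π) * t) p
  refine ⟨k, ?_⟩
  rw [hk]
  ring

end hensel

section units

variable {O : Type*} [CommRing O]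

/-- the subgroup `1 + c O` of the units -/
def unitsOne (c : O) : Subgroup Oˣ where
  carrier := {u | ∃ t : O, (u : O) = 1 + c * t}
  one_mem' := ⟨0, by simp⟩
  mul_mem' := by
    rintro u v ⟨s, hs⟩ ⟨t, ht⟩
    refine ⟨s + t + c * s * t, ?_⟩
    rw [Units.val_mul, hs, ht]
    ring
  inv_mem' := by
    rintro u ⟨s, hs⟩
    refine ⟨- s * ((u⁻¹ : Oˣ) : O), ?_⟩
    have h : (u : O) * ((u⁻¹ : Oˣ) : O) = 1 := Units.mul_inv u
    have h2 : (1 + c * s) * ((u⁻¹ : Oˣ) : O) = 1 := by rw [← hs, h]
    linear_combination h2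

theorem mem_unitsOne {c : O} {u : Oˣ} : u ∈ unitsOne c ↔ ∃ t : O, (u : O) = 1 + c * t := Iff.rfl

theorem finite_quot (c : O) [Finite (O ⧸ Ideal.span {c})] : Finite (Oˣ ⧸ unitsOne c) := by
  have hinj : Injective (QuotientGroup.kerLift (Units.map
      (Ideal.Quotient.mk (Ideal.span {c})).toMonoidHom)) := QuotientGroup.kerLift_injective _
  have hk : (Units.map (Ideal.Quotient.mk (Ideal.span {c})).toMonoidHom).ker = unitsOne c := by
    ext u
    rw [MonoidHom.mem_ker, mem_unitsOne, Units.ext_iff]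
    change Ideal.Quotient.mk (Ideal.span {c}) (u : O) = 1 ↔ _
    rw [← map_one (Ideal.Quotient.mk (Ideal.span {c})), Ideal.Quotient.eq,
      Ideal.mem_span_singleton']
    constructor
    · rintro ⟨t, ht⟩
      exact ⟨t, by linear_combination -ht⟩
    · rintro ⟨t, ht⟩
      exact ⟨t, by linear_combination -ht⟩
  rw [← hk]
  exact Finite.of_injective _ hinj

end units

section main

variable {O : Type*} [CommRing O] [IsDomain O]

/-- `p`-torsion and cokernel for `1 + p π O`. -/
theorem unitsOne_count [HenselianLocalRing O] (p : ℕ) (hp : 2 ≤ p) (hp0 : (p : O) ≠ 0) (π : O)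
    (hπ : π ∈ IsLocalRing.maximalIdeal O) (hπ0 : π ≠ 0) :
    tor p (Additive (unitsOne ((p : O) * π))) = 1 ∧
      cok p (Additive (unitsOne ((p : O) * π))) = Nat.card (O ⧸ Ideal.span {(p : O)}) := by
  have hc : (p : O) * π ≠ 0 := mul_ne_zero hp0 hπ0
  have hu : ∀ x : O, IsUnit (1 + x * π) := by
    intro x
    by_contra hcon
    have h3 : (1 + x * π) ∈ IsLocalRing.maximalIdeal O := hcon
    have h4 := sub_mem h3 (Ideal.mul_mem_left _ x hπ)
    rw [add_sub_cancel_right] at h4
    exact (IsLocalRing.maximalIdeal.isMaximal O).ne_top ((Ideal.eq_top_iff_one _).2 h4)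
  choose τ hτ using fun u : unitsOne ((p : O) * π) => u.2
  have hτmul : ∀ u v, τ (u * v) = τ u + τ v + (p * π) * τ u * τ v := by
    intro u v
    apply mul_left_cancel₀ hc
    have h1 := hτ (u * v)
    have h2 : (((u * v : unitsOne ((p : O) * π)) : Oˣ) : O) = ((u : Oˣ) : O) * ((v : Oˣ) : O) := rfl
    rw [h2, hτ u, hτ v] at h1
    linear_combination -h1
  constructor
  · apply tor_eq_one
    intro m hm
    obtain ⟨k, hk⟩ := pow_form p π (τ m.toMul)
    have h1 : ((m.toMul : Oˣ) : O) ^ p = 1 := by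
      have : (m.toMul) ^ p = 1 := hm
      have h2 := congrArg (fun z : unitsOne ((p : O) * π) => ((z : Oˣ) : O)) this
      exact h2
    rw [hτ, hk, add_eq_left, mul_eq_zero, or_iff_right hp0, mul_eq_zero, or_iff_right hc,
      mul_eq_zero] at h1
    have h3 : IsUnit (1 + k * π * τ m.toMul) := by
      have := hu (k * τ m.toMul)
      rwa [show k * τ m.toMul * π = k * π * τ m.toMul by ring] at this
    have h4 : τ m.toMul = 0 := h1.resolve_right h3.ne_zero
    have h5 : ((m.toMul : Oˣ) : O) = 1 := by rw [hτ, h4, mul_zero, add_zero]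
    have h6 : m.toMul = 1 := Subtype.ext (Units.ext h5)
    exact h6
  · let φ : Additive (unitsOne ((p : O) * π)) →+ O ⧸ Ideal.span {(p : O)} :=
      { toFun := fun u => Ideal.Quotient.mk _ (τ u.toMul)
        map_zero' := by
          have h1 := hτ 1
          have h2 : (((1 : unitsOne ((p : O) * π)) : Oˣ) : O) = 1 := rfl
          rw [h2, left_eq_add, mul_eq_zero, or_iff_right hc] at h1
          change Ideal.Quotient.mk _ (τ 1) = 0
          rw [h1, map_zero]
        map_add' := fun u v => by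
          change Ideal.Quotient.mk _ (τ (u.toMul * v.toMul)) = _
          rw [hτmul, map_add, map_add, add_eq_left, Ideal.Quotient.eq_zero_iff_mem,
            Ideal.mem_span_singleton']
          exact ⟨π * τ u.toMul * τ v.toMul, by ring⟩ }
    refine cok_eq_of_surjective p φ ?_ ?_
    · intro y
      obtain ⟨x, rfl⟩ := Ideal.Quotient.mk_surjective y
      have h1 : IsUnit (1 + (p * π) * x) := by
        have := hu (p * x)
        rwa [show (p : O) * x * π = (p * π) * x by ring] at this
      obtain ⟨v, hv⟩ := h1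
      have hvm : v ∈ unitsOne ((p : O) * π) := ⟨x, hv⟩
      refine ⟨Additive.ofMul ⟨v, hvm⟩, ?_⟩
      change Ideal.Quotient.mk _ (τ ⟨v, hvm⟩) = _
      congr 1
      apply mul_left_cancel₀ hc
      have h2 : (v : O) = 1 + (p * π) * τ ⟨v, hvm⟩ := hτ ⟨v, hvm⟩
      exact add_left_cancel (h2.symm.trans hv)
    · intro m
      change Ideal.Quotient.mk _ (τ m.toMul) = 0 ↔ _
      rw [Ideal.Quotient.eq_zero_iff_mem, Ideal.mem_span_singleton']
      constructor
      · rintro ⟨s, hs⟩
        obtain ⟨t, ht⟩ := exists_pow_eq p hp ((p : O) * (π * s)) (π * s) rfl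
          (Ideal.mul_mem_right _ _ hπ) hp0
        have h1 : IsUnit (1 + (p : O) * (π * s) * t) := by
          have := hu (p * s * t)
          rwa [show (p : O) * s * t * π = p * (π * s) * t by ring] at this
        obtain ⟨v, hv⟩ := h1
        refine ⟨Additive.ofMul ⟨v, s * t, by rw [hv]; ring⟩, ?_⟩
        apply Additive.toMul.injective
        apply Subtype.ext
        apply Units.ext
        change (v : O) ^ p = ((m.toMul : Oˣ) : O)
        rw [hv, ht, hτ, ← hs]
        ring
      · rintro ⟨w, rfl⟩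
        obtain ⟨k, hk⟩ := pow_form p π (τ w.toMul)
        refine ⟨τ w.toMul * (1 + k * π * τ w.toMul), ?_⟩
        apply mul_left_cancel₀ hc
        have h1 := hτ (p • w).toMul
        have h2 : (((p • w).toMul : Oˣ) : O) = ((w.toMul : Oˣ) : O) ^ p := rfl
        rw [h2, hτ w.toMul, hk] at h1
        linear_combination h1

theorem tor_eq_cok_of_finite (p : ℕ) (M : Type*) [AddCommGroup M] [Finite M] :
    tor p M = cok p M ∧ cok p M ≠ 0 := by
  have h1 := card_eq_ker_mul_range (mulN p M)
  have h2 := Submodule.card_eq_card_quotient_mul_card (LinearMap.range (mulN p M))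
  have h3 : Nat.card (LinearMap.range (mulN p M)) ≠ 0 := Nat.card_pos.ne'
  have : Finite (M ⧸ LinearMap.range (mulN p M)) :=
    Finite.of_surjective _ (Submodule.mkQ_surjective _)
  refine ⟨?_, ?_⟩
  · rw [tor, cok]
    apply Nat.eq_of_mul_eq_mul_right (Nat.pos_of_ne_zero h3)
    rw [← h1, h2, mul_comm]
  · rw [cok]
    exact Nat.card_pos.ne'

theorem cok_int (p : ℕ) : cok p ℤ = p := by
  rw [cok_eq_of_surjective p (N := ZMod p) (Int.castAddHom (ZMod p)) ZMod.intCast_surjective ?_,
    Nat.card_zmod]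
  intro m
  change (m : ZMod p) = 0 ↔ _
  rw [ZMod.intCast_zmod_eq_zero_iff_dvd]
  exact ⟨fun ⟨k, hk⟩ => ⟨k, by rw [hk, nsmul_eq_mul]⟩, fun ⟨k, hk⟩ => ⟨k, by rw [← hk, nsmul_eq_mul]⟩⟩

theorem tor_int (p : ℕ) (hp : p ≠ 0) : tor p ℤ = 1 := by
  refine tor_eq_one p ℤ fun m hm => ?_
  rw [nsmul_eq_mul, mul_eq_zero] at hm
  exact hm.resolve_left (by exact_mod_cast hp)

/-- For a finite index subgroup. -/
theorem herb_subgroup (p : ℕ) {G : Type*} [CommGroup G] (U : Subgroup G) [Finite (G ⧸ U)] :
    tor p (Additive U) * cok p (Additive G) = tor p (Additive G) * cok p (Additive U) := by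
  have h := herbrand p (A := Additive U) (B := Additive G) (C := Additive (G ⧸ U))
    (U.subtype.toAdditive.toIntLinearMap) ((QuotientGroup.mk' U).toAdditive.toIntLinearMap)
    Subtype.val_injective (QuotientGroup.mk'_surjective U) (by
      intro x
      change (QuotientGroup.mk' U) x.toMul = 1 ↔ _
      rw [QuotientGroup.mk'_apply, QuotientGroup.eq_one_iff]
      exact ⟨fun h => ⟨Additive.ofMul ⟨_, h⟩, rfl⟩, fun ⟨y, hy⟩ => hy ▸ y.toMul.2⟩)
  have : Finite (Additive (G ⧸ U)) := Finite.of_equiv _ (Additive.ofMul (α := G ⧸ U))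
  obtain ⟨h1, h2⟩ := tor_eq_cok_of_finite p (Additive (G ⧸ U))
  rw [h1] at h
  apply Nat.eq_of_mul_eq_mul_right (Nat.pos_of_ne_zero h2)
  linarith

theorem herb_prod (p : ℕ) (hp : p ≠ 0) (A : Type*) [AddCommGroup A] :
    tor p A * cok p (A × ℤ) = tor p (A × ℤ) * cok p A * p := by
  have h := herbrand p (LinearMap.inl ℤ A ℤ) (LinearMap.snd ℤ A ℤ) LinearMap.inl_injective
    LinearMap.snd_surjective (LinearMap.exact_iff.2 (LinearMap.ker_snd ..))
  rwa [tor_int p hp, cok_int, mul_one] at h

theorem tor_units_ne_zero (p : ℕ) (hp : p ≠ 0) (R : Type*) [CommRing R] [IsDomain R] :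
    tor p (Additive Rˣ) ≠ 0 := by
  have : NeZero p := ⟨hp⟩
  rw [tor_eq]
  have e : {m : Additive Rˣ // p • m = 0} ≃ rootsOfUnity p R :=
    Equiv.subtypeEquiv (Additive.toMul (α := Rˣ)) (fun m => by
      rw [mem_rootsOfUnity]
      exact Iff.rfl)
  rw [Nat.card_congr e]
  exact Nat.card_pos.ne'

end main

section final

variable (p : ℕ) [Fact p.Prime] (O E : Type*) [CommRing O] [IsDomain O]
  [IsDiscreteValuationRing O]

theorem finite_quot_span [Finite (IsLocalRing.ResidueField O)] (c : O) (hc : c ≠ 0) :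
    Finite (O ⧸ Ideal.span {c}) := by
  obtain ⟨ϖ, hϖ⟩ := IsDiscreteValuationRing.exists_irreducible O
  obtain ⟨n, hn⟩ := IsDiscreteValuationRing.ideal_eq_span_pow_irreducible
    (s := Ideal.span {c}) (by rwa [Ne, Ideal.span_singleton_eq_bot]) hϖ
  have h2 : (IsLocalRing.maximalIdeal O) ^ n = Ideal.span {c} := by
    rw [hn, (IsDiscreteValuationRing.irreducible_iff_uniformizer ϖ).1 hϖ, Ideal.span_singleton_pow]
  rw [← h2]
  have : Finite (O ⧸ IsLocalRing.maximalIdeal O) := ‹Finite (IsLocalRing.ResidueField O)›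
  exact Ideal.finite_quotient_pow (IsNoetherian.noetherian _) n

variable [Field E] [Algebra O E] [IsFractionRing O E]

/-- `E^* ≅ O^* × ℤ`. -/
theorem exists_equiv : Nonempty (Additive Oˣ × ℤ ≃+ Additive Eˣ) := by
  obtain ⟨ϖ, hϖ⟩ := IsDiscreteValuationRing.exists_irreducible O
  have hϖ0 : algebraMap O E ϖ ≠ 0 := by
    rw [Ne, FaithfulSMul.algebraMap_eq_zero_iff]
    exact hϖ.ne_zero
  let w : Eˣ := Units.mk0 _ hϖ0
  let f : Additive Oˣ →+ Additive Eˣ := (Units.map (algebraMap O E).toMonoidHom).toAdditive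
  let g : ℤ →+ Additive Eˣ := zmultiplesHom (Additive Eˣ) (Additive.ofMul w)
  have hfg : ∀ u : Additive Oˣ, ∀ k : ℤ, (((f u + g k).toMul : Eˣ) : E) =
      algebraMap O E (u.toMul : Oˣ) * (algebraMap O E ϖ) ^ k := by
    intro u k
    have e1 : (f u + g k).toMul = (f u).toMul * w ^ k := rfl
    rw [e1, Units.val_mul, Units.val_zpow_eq_zpow_val]
    rfl
  refine ⟨AddEquiv.ofBijective (AddMonoidHom.coprod f g) ⟨?_, ?_⟩⟩
  · rw [injective_iff_map_eq_zero]
    rintro ⟨u, k⟩ h
    have h1 : algebraMap O E (u.toMul : Oˣ) * (algebraMap O E ϖ) ^ k = 1 := by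
      rw [← hfg]
      have h2 : (f u + g k) = 0 := h
      rw [h2]
      rfl
    have key : k = 0 := by
      rcases lt_trichotomy k 0 with hk | hk | hk
      · exfalso
        obtain ⟨n, hn⟩ : ∃ n : ℕ, k = -((n : ℤ) + 1) := ⟨(-k - 1).toNat, by omega⟩
        rw [hn, zpow_neg, ← div_eq_mul_inv, div_eq_one_iff_eq (zpow_ne_zero _ hϖ0)] at h1
        have h3 : ((u.toMul : Oˣ) : O) = ϖ ^ (n + 1) := by
          apply IsFractionRing.injective O E
          rw [h1, map_pow]
          exact_mod_cast rfl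
        have h4 : IsUnit (ϖ ^ (n + 1)) := by rw [← h3]; exact Units.isUnit _
        exact hϖ.not_isUnit (isUnit_of_mul_isUnit_right (by rwa [pow_succ] at h4))
      · exact hk
      · exfalso
        obtain ⟨n, hn⟩ : ∃ n : ℕ, k = ((n : ℤ) + 1) := ⟨(k - 1).toNat, by omega⟩
        have h3 : ((u.toMul : Oˣ) : O) * ϖ ^ (n + 1) = 1 := by
          apply IsFractionRing.injective O E
          rw [map_mul, map_pow, map_one, ← h1, hn]
          exact_mod_cast rfl
        have h4 : IsUnit (ϖ ^ (n + 1)) := IsUnit.of_mul_eq_one _ (by rw [mul_comm]; exact h3)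
        exact hϖ.not_isUnit (isUnit_of_mul_isUnit_right (by rwa [pow_succ] at h4))
    subst key
    rw [zpow_zero, mul_one] at h1
    have h3 : ((u.toMul : Oˣ) : O) = 1 := by
      apply IsFractionRing.injective O E
      rw [h1, map_one]
    have h4 : u = 0 := by
      apply Additive.toMul.injective
      exact Units.ext h3
    rw [h4]
    rfl
  · intro x
    obtain ⟨a, b, hb, hab⟩ := IsFractionRing.div_surjective (A := O) ((x.toMul : Eˣ) : E)
    have ha0 : a ≠ 0 := by
      rintro rfl
      rw [map_zero, zero_div] at hab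
      exact (x.toMul : Eˣ).ne_zero hab.symm
    have hb0 : b ≠ 0 := nonZeroDivisors.ne_zero hb
    obtain ⟨n, u, hu⟩ := IsDiscreteValuationRing.eq_unit_mul_pow_irreducible ha0 hϖ
    obtain ⟨m, v, hv⟩ := IsDiscreteValuationRing.eq_unit_mul_pow_irreducible hb0 hϖ
    refine ⟨(Additive.ofMul (u * v⁻¹), (n : ℤ) - m), ?_⟩
    apply Additive.toMul.injective
    apply Units.ext
    have e := hfg (Additive.ofMul (u * v⁻¹)) ((n : ℤ) - m)
    refine e.trans ?_
    change algebraMap O E ((u * v⁻¹ : Oˣ) : O) * _ = _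
    rw [← hab, hu, hv, map_mul (algebraMap O E), map_mul (algebraMap O E),
      map_pow (algebraMap O E), map_pow (algebraMap O E), zpow_sub₀ hϖ0, zpow_natCast,
      zpow_natCast]
    have hv' : algebraMap O E ((v⁻¹ : Oˣ) : O) = (algebraMap O E (v : O))⁻¹ := by
      apply eq_inv_of_mul_eq_one_left
      rw [← map_mul, Units.inv_mul, map_one]
    rw [Units.val_mul, map_mul, hv', mul_div_mul_comm, ← div_eq_mul_inv]

/-- **NF2.** -/
theorem cok_units [HenselianLocalRing O] [Finite (IsLocalRing.ResidueField O)]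
    (hp : (p : E) ≠ 0) :
    Finite (O ⧸ Ideal.span {(p : O)}) ∧ tor p (Additive Eˣ) ≠ 0 ∧
      cok p (Additive Eˣ) = p * Nat.card (O ⧸ Ideal.span {(p : O)}) * tor p (Additive Eˣ) := by
  have hp1 : p.Prime := Fact.out
  have hp0 : (p : O) ≠ 0 := by
    rintro h
    apply hp
    rw [← map_natCast (algebraMap O E) p, h, map_zero]
  obtain ⟨π, hπ⟩ := IsDiscreteValuationRing.exists_irreducible O
  have hπm : π ∈ IsLocalRing.maximalIdeal O := hπ.not_isUnit
  obtain ⟨c1, c2⟩ := unitsOne_count p hp1.two_le hp0 π hπm hπ.ne_zero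
  have : Finite (O ⧸ Ideal.span {(p : O) * π}) :=
    finite_quot_span O _ (mul_ne_zero hp0 hπ.ne_zero)
  have := finite_quot ((p : O) * π)
  have c3 := herb_subgroup p (unitsOne ((p : O) * π))
  rw [c1, c2, one_mul] at c3
  have c4 := herb_prod p hp1.ne_zero (Additive Oˣ)
  obtain ⟨e⟩ := exists_equiv O E
  rw [cok_congr p e, tor_congr p e, c3] at c4
  have c5 := tor_units_ne_zero p hp1.ne_zero O
  refine ⟨finite_quot_span O _ hp0, tor_units_ne_zero p hp1.ne_zero E, ?_⟩
  apply Nat.eq_of_mul_eq_mul_left (Nat.pos_of_ne_zero c5)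
  rw [c4]
  ring

end final

end Groth.Agent.Etbc.H174.LocalUnits
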